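import Groth.Agent.Lib.SmoothRed.Basic
import Groth.Agent.Lib.GeomRed21.Algebra
import Groth.Agent.Lib.Hens.Reduced
import Mathlib.RingTheory.DiscreteValuationRing.Basic
import Mathlib.RingTheory.Etale.Field

/-!
# Local rings of codimension one in the closed fibre of a smooth algebra
-/

universe u

open IsLocalRing TensorProduct

namespace Groth.Agent.NeronCrit19

set_option linter.style.haveILetI false

theorem isGeometricallyReduced_of_smooth (k A : Type u) [Field k] [CommRing A] [Algebra k A] [Algebra.Smooth k A] :
    Algebra.IsGeometricallyReduced k A :=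
  (Algebra.isGeometricallyReduced_field_iff _ _).2
    (SmoothRed.isReduced_of_smooth_field (AlgebraicClosure k) (AlgebraicClosure k ⊗[k] A))

/-- A separable algebraic extension of a geometrically reduced extension is geometrically reduced. -/
theorem isGeometricallyReduced_trans (k κ L : Type u) [Field k] [Field κ] [Field L] [Algebra k κ] [Algebra κ L]
    [Algebra k L] [IsScalarTower k κ L] [Algebra.IsGeometricallyReduced k κ] [Algebra.IsSeparable κ L] :
    Algebra.IsGeometricallyReduced k L := by
  refine Algebra.IsGeometricallyReduced.of_forall_fg fun B hB => ?_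
  obtain ⟨s, hs⟩ := hB
  let E := IntermediateField.adjoin κ (s : Set L)
  haveI : FiniteDimensional κ E :=
    IntermediateField.finiteDimensional_adjoin fun x _ => (Algebra.IsSeparable.isSeparable κ x).isIntegral
  haveI : Algebra.IsSeparable κ E := Algebra.isSeparable_tower_bot_of_isSeparable κ E L
  haveI : Algebra.FormallyEtale κ E := Algebra.FormallyEtale.of_isSeparable κ E
  haveI : Algebra.FinitePresentation κ E := Algebra.FinitePresentation.of_finiteType.1 inferInstance
  haveI : Algebra.Etale κ E := { }
  haveI : Algebra.IsGeometricallyReduced k E := by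
    rw [Algebra.isGeometricallyReduced_field_iff]
    haveI : IsReduced (κ ⊗[k] AlgebraicClosure k) := GeomRed21.isReduced_tensor_field' (k := k) κ _
    haveI : IsReduced ((κ ⊗[k] AlgebraicClosure k) ⊗[κ] E) :=
      Hens.isReduced_of_etale (κ ⊗[k] AlgebraicClosure k) ((κ ⊗[k] AlgebraicClosure k) ⊗[κ] E)
    let e₁ : (κ ⊗[k] AlgebraicClosure k) ⊗[κ] E ≃+* E ⊗[κ] (κ ⊗[k] AlgebraicClosure k) :=
      (Algebra.TensorProduct.comm κ _ _).toRingEquiv
    let e₂ : E ⊗[κ] (κ ⊗[k] AlgebraicClosure k) ≃+* E ⊗[k] AlgebraicClosure k :=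
      (Algebra.TensorProduct.cancelBaseChange k κ κ E (AlgebraicClosure k)).toRingEquiv
    let e₃ : E ⊗[k] AlgebraicClosure k ≃+* AlgebraicClosure k ⊗[k] E :=
      (Algebra.TensorProduct.comm k _ _).toRingEquiv
    exact isReduced_of_injective ((e₁.trans e₂).trans e₃).symm ((e₁.trans e₂).trans e₃).symm.injective
  have hle : B ≤ E.toSubalgebra.restrictScalars k := by
    rw [← hs, Algebra.adjoin_le_iff]
    exact IntermediateField.subset_adjoin κ _
  let f : B →ₐ[k] E :=
    { toFun := fun b => ⟨b.1, hle b.2⟩
      map_one' := rfl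
      map_mul' := fun _ _ => rfl
      map_zero' := rfl
      map_add' := fun _ _ => rfl
      commutes' := fun c => Subtype.ext rfl }
  exact Algebra.IsGeometricallyReduced.of_injective f fun a b h =>
    Subtype.ext (congrArg (fun e : E => (e : L)) h)

/-- The local ring at a codimension one point of the closed fibre of a smooth algebra over a discrete
valuation ring has ramification index one and geometrically reduced residue field. -/
theorem residue_facts (R B O : Type u) [CommRing R] [IsDomain R] [IsDiscreteValuationRing R]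
    [CommRing B] [Algebra R B] [Algebra.Smooth R B]
    [CommRing O] [IsDomain O] [IsDiscreteValuationRing O] [Algebra B O] [Algebra R O] [IsScalarTower R B O]
    (P : Ideal B) [P.IsPrime] [IsLocalization.AtPrime O P] [IsLocalHom (algebraMap R O)]
    (hinj : Function.Injective (algebraMap R O)) :
    (maximalIdeal R).map (algebraMap R O) = maximalIdeal O ∧
      Algebra.IsGeometricallyReduced (ResidueField R) (ResidueField O) := by
  let k := ResidueField R
  let T := k ⊗[R] B
  haveI : Algebra.IsGeometricallyReduced k T := isGeometricallyReduced_of_smooth k T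
  haveI : IsReduced T := Algebra.isReduced_of_isGeometricallyReduced k
  let q : B →ₐ[R] T := Algebra.TensorProduct.includeRight
  have hqs : Function.Surjective q := by
    intro t
    induction t using TensorProduct.induction_on with
    | zero => exact ⟨0, map_zero _⟩
    | tmul c b =>
      obtain ⟨r, rfl⟩ := IsLocalRing.residue_surjective c
      refine ⟨r • b, ?_⟩
      rw [map_smul, Algebra.TensorProduct.includeRight_apply, TensorProduct.smul_tmul']
      congr 1
      rw [Algebra.smul_def, mul_one]
      rfl
    | add x y hx hy =>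
      obtain ⟨a, rfl⟩ := hx
      obtain ⟨b, rfl⟩ := hy
      exact ⟨a + b, map_add _ _ _⟩
  obtain ⟨π, hπ⟩ := IsDiscreteValuationRing.exists_irreducible R
  let I : Ideal B := Ideal.span {algebraMap R B π}
  have hker : ∀ b, q b = 0 → b ∈ I := by
    intro b hb
    let j : k →ₐ[R] B ⧸ I :=
      { toRingHom := Ideal.Quotient.lift (maximalIdeal R) ((Ideal.Quotient.mk I).comp (algebraMap R B)) (fun a ha => by
          rw [hπ.maximalIdeal_eq, Ideal.mem_span_singleton] at ha
          obtain ⟨c, rfl⟩ := ha
          show Ideal.Quotient.mk I (algebraMap R B (π * c)) = 0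
          rw [Ideal.Quotient.eq_zero_iff_mem, map_mul]
          exact Ideal.mul_mem_right _ _ (Ideal.mem_span_singleton_self _))
        commutes' := fun r => rfl }
    let φ : T →ₐ[R] B ⧸ I := Algebra.TensorProduct.lift j (Ideal.Quotient.mkₐ R I) fun _ _ => Commute.all _ _
    have h := congrArg φ hb
    rw [map_zero, show φ (q b) = j 1 * Ideal.Quotient.mk I b from Algebra.TensorProduct.lift_tmul _ _ _ _ _,
      map_one, one_mul] at h
    exact Ideal.Quotient.eq_zero_iff_mem.1 h
  have hqπ : ∀ c, q (algebraMap R B π * c) = 0 := by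
    intro c
    have h0 : algebraMap R k π = 0 := (IsLocalRing.residue_eq_zero_iff π).2 hπ.not_isUnit
    have h1 : q (algebraMap R B π) = 0 := by
      rw [AlgHom.commutes, IsScalarTower.algebraMap_apply R k T, h0, map_zero]
    rw [map_mul, h1, zero_mul]
  set t₀ := algebraMap R O π with ht₀
  have hπB : algebraMap B O (algebraMap R B π) = t₀ := (IsScalarTower.algebraMap_apply R B O π).symm
  have hmax : (maximalIdeal R).map (algebraMap R O) = maximalIdeal O := by
    refine le_antisymm (((IsLocalRing.local_hom_TFAE (algebraMap R O)).out 0 2).1 (inferInstance : IsLocalHom (algebraMap R O))) ?_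
    rw [hπ.maximalIdeal_eq, Ideal.map_span, Set.image_singleton]
    obtain ⟨ϖ, hϖ⟩ := IsDiscreteValuationRing.exists_irreducible O
    rw [hϖ.maximalIdeal_eq, Ideal.span_singleton_le_iff_mem]
    have hne : t₀ ≠ 0 → ∃ n, ϖ ^ (n + 1) ∈ Ideal.span {t₀} := fun h0 => by
      obtain ⟨n, u, hu⟩ := IsDiscreteValuationRing.eq_unit_mul_pow_irreducible h0 hϖ
      refine ⟨n, Ideal.mem_span_singleton.2 ?_⟩
      rw [hu, mul_comm]
      exact ⟨ϖ * ↑u⁻¹, by rw [pow_succ, mul_assoc, ← mul_assoc (u : O), mul_comm (u : O) ϖ, mul_assoc, Units.mul_inv, mul_one]⟩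
    obtain ⟨⟨b, s⟩, hbs⟩ := IsLocalization.surj P.primeCompl ϖ
    simp only at hbs
    have ht0 : t₀ ≠ 0 := fun h0 => hπ.ne_zero (hinj (h0.trans (map_zero _).symm))
    obtain ⟨n, hn⟩ := hne ht0
    obtain ⟨w, hw⟩ := Ideal.mem_span_singleton.1 hn
    obtain ⟨⟨c, s'⟩, hcs⟩ := IsLocalization.surj P.primeCompl w
    simp only at hcs
    have e : algebraMap B O (b ^ (n + 1) * s') = algebraMap B O (algebraMap R B π * c * (s : B) ^ (n + 1)) := by
      rw [map_mul, map_mul, map_mul, map_pow, map_pow, hπB, ← hbs, ← hcs, mul_pow, hw]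
      ring
    obtain ⟨d, hd⟩ := (IsLocalization.eq_iff_exists P.primeCompl O).1 e
    have hnil : IsNilpotent (q ((d : B) * s' * b)) := by
      refine ⟨n + 1, ?_⟩
      rw [← map_pow, mul_pow]
      have : ((d : B) * s') ^ (n + 1) * b ^ (n + 1) =
          algebraMap R B π * (((d : B) * s') ^ n * (d * (c * (s : B) ^ (n + 1)))) := by
        rw [pow_succ ((d : B) * s') n, mul_assoc _ ((d : B) * s') (b ^ (n + 1)),
          show (d : B) * s' * b ^ (n + 1) = d * (b ^ (n + 1) * s') by ring, hd]
        ring
      rw [this]
      exact hqπ _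
    obtain ⟨c', hc'⟩ := Ideal.mem_span_singleton.1 (hker _ hnil.eq_zero)
    have hu : IsUnit (algebraMap B O ((d : B) * s' * s)) :=
      IsLocalization.map_units O (d * s' * s)
    refine (Ideal.unit_mul_mem_iff_mem _ hu).1 (Ideal.mem_span_singleton.2 ⟨algebraMap B O c', ?_⟩)
    rw [map_mul (algebraMap B O), mul_assoc, mul_comm (algebraMap B O s) ϖ, hbs, ← map_mul, hc', map_mul, hπB]
  refine ⟨hmax, ?_⟩
  let κ := ResidueField O
  let ψ : T →ₐ[k] κ := Algebra.TensorProduct.lift (Algebra.ofId k κ)
    ((IsScalarTower.toAlgHom R O κ).comp (IsScalarTower.toAlgHom R B O)) fun _ _ => Commute.all _ _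
  have hψq : ∀ b, ψ (q b) = residue O (algebraMap B O b) := fun b => by
    rw [show ψ (q b) = algebraMap k κ 1 * residue O (algebraMap B O b) from
      Algebra.TensorProduct.lift_tmul _ _ _ _ _, map_one, one_mul]
  letI : Algebra T κ := ψ.toRingHom.toAlgebra
  haveI : IsScalarTower k T κ := IsScalarTower.of_algebraMap_eq fun z => (ψ.commutes z).symm
  haveI : (RingHom.ker ψ.toRingHom).IsPrime := RingHom.ker_isPrime _
  haveI : IsLocalization (RingHom.ker ψ.toRingHom).primeCompl κ :=
    { map_units := fun s => isUnit_iff_ne_zero.2 s.2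
      surj := fun y => by
        obtain ⟨o, rfl⟩ := IsLocalRing.residue_surjective y
        obtain ⟨⟨b, s⟩, hbs⟩ := IsLocalization.surj P.primeCompl o
        refine ⟨(q b, ⟨q s, fun h => ?_⟩), ?_⟩
        · have h' : residue O (algebraMap B O s) = 0 := (hψq s).symm.trans h
          exact (IsLocalRing.residue_eq_zero_iff _).1 h' (IsLocalization.map_units O s)
        · show residue O o * ψ (q s) = ψ (q b)
          rw [hψq, hψq, ← map_mul]
          exact congrArg _ hbs
      exists_of_eq := fun {x y} hxy => by
        obtain ⟨b, hb⟩ := hqs (x - y)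
        have h0 : residue O (algebraMap B O b) = 0 := by
          rw [← hψq, hb, map_sub]; exact sub_eq_zero.2 hxy
        have h1 := (IsLocalRing.residue_eq_zero_iff _).1 h0
        rw [← hmax, hπ.maximalIdeal_eq, Ideal.map_span, Set.image_singleton, Ideal.mem_span_singleton] at h1
        obtain ⟨w, hw⟩ := h1
        obtain ⟨⟨c, s⟩, hcs⟩ := IsLocalization.surj P.primeCompl w
        simp only at hcs
        have e : algebraMap B O (b * s) = algebraMap B O (algebraMap R B π * c) := by
          rw [map_mul, map_mul, hπB, ← hcs, hw]; ring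
        obtain ⟨d, hd⟩ := (IsLocalization.eq_iff_exists P.primeCompl O).1 e
        refine ⟨⟨q ((d : B) * s), fun h => ?_⟩, sub_eq_zero.1 ?_⟩
        · have h' : residue O (algebraMap B O ((d : B) * s)) = 0 := (hψq _).symm.trans h
          exact (IsLocalRing.residue_eq_zero_iff _).1 h' (IsLocalization.map_units O (d * s))
        · show q ((d : B) * s) * x - q ((d : B) * s) * y = 0
          rw [← mul_sub, ← hb, ← map_mul, show (d : B) * s * b = d * (b * s) by ring, hd,
            show (d : B) * (algebraMap R B π * c) = algebraMap R B π * (d * c) by ring]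
          exact hqπ _ }
  exact GeomRed21.isGeometricallyReduced_of_isLocalization (RingHom.ker ψ.toRingHom).primeCompl κ

end Groth.Agent.NeronCrit19
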