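import Groth.Agent.Lib.NeronCrit19.Basic
import Groth.Agent.Lib.NeronCrit19.Residue
import Groth.Agent.S0537
import Groth.Agent.S0538
import Groth.Agent.S9262

/-!
# Néron mapping property from points over strictly henselian extensions of ramification index one
-/

universe u

open CategoryTheory CategoryTheory.Limits AlgebraicGeometry TopologicalSpace IsLocalRing

namespace Groth.Agent.NeronCrit19

set_option linter.style.haveILetI false
set_option backward.isDefEq.respectTransparency.types false

variable {R : Type u} [CommRing R] [IsDomain R] [IsDiscreteValuationRing R]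

theorem stalk_residue_facts {Y : Scheme.{u}} (p : Y ⟶ Spec (CommRingCat.of R)) [Smooth p] (x : Y)
    [IsDomain (Y.presheaf.stalk x)] [IsDiscreteValuationRing (Y.presheaf.stalk x)]
    (hinj : Function.Injective (WeilExt.rStalk p x).hom) [hl : IsLocalHom (WeilExt.rStalk p x).hom]
    [Algebra R (Y.presheaf.stalk x)] [hl' : IsLocalHom (algebraMap R (Y.presheaf.stalk x))]
    (halg : algebraMap R (Y.presheaf.stalk x) = (WeilExt.rStalk p x).hom) :
    (maximalIdeal R).map (algebraMap R (Y.presheaf.stalk x)) = maximalIdeal (Y.presheaf.stalk x) ∧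
      Algebra.IsGeometricallyReduced (ResidueField R) (ResidueField (Y.presheaf.stalk x)) := by
  obtain ⟨O, hO, hxO, -⟩ := exists_isAffineOpen_mem_and_subset (X := Y) (x := x) (U := ⊤) trivial
  let ψ := Spec.preimage (hO.fromSpec ≫ p)
  have hψ : Spec.map ψ = hO.fromSpec ≫ p := Spec.map_preimage _
  letI := ψ.hom.toAlgebra
  haveI : Algebra.Smooth R Γ(Y, O) := RingHom.smooth_algebraMap.1 (HasRingHomProperty.Spec_iff.1
    (show Smooth (Spec.map ψ) by rw [hψ]; infer_instance))
  letI := Y.presheaf.algebra_section_stalk ⟨x, hxO⟩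
  haveI := hO.isLocalization_stalk ⟨x, hxO⟩
  have hgerm : ψ ≫ Y.presheaf.germ O x hxO = WeilExt.rStalk p x := by
    apply Spec.map_injective
    rw [Spec.map_comp, hψ, WeilExt.rStalk_spec, ← hO.fromSpecStalk_eq_fromSpecStalk hxO,
      IsAffineOpen.fromSpecStalk, Category.assoc]
  haveI : IsScalarTower R Γ(Y, O) (Y.presheaf.stalk x) := IsScalarTower.of_algebraMap_eq fun r => by
    rw [halg, ← hgerm]
    rfl
  exact residue_facts R Γ(Y, O) (Y.presheaf.stalk x) (hO.primeIdealOf ⟨x, hxO⟩).asIdeal (by rw [halg]; exact hinj)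

end Groth.Agent.NeronCrit19
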